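import Cfsg.Agent.Helper19.TCR.StaticDefs

/-! Orbit certificates on top of a finished coset table `ent` (format of `Helper19.TCS`):
every point `i < N` carries a packed entry `orb i = p + md * (l + mc * d)`; `d = 0` says that
`i` is a root, `d > 0` that `i` is the image of the point `p` (of smaller depth) under the letter
`l`, which has to be one of the letters allowed by `isH`.  Definitions only (no Mathlib import). -/

set_option autoImplicit false
set_option linter.all false

namespace Cfsg.Agent.Helper17.OrbCert

open Cfsg.Agent.Helper19.TCS

section comp

variable (N md mc mdc : Nat) (ent : Nat → Nat → Nat) (orb : Nat → Nat) (isH : Nat → Bool)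
  (isRoot : Nat → Bool)

/-- the check of one point. -/
noncomputable def okPt (i : Nat) : Bool :=
  force (orb i) (fun e => force (Nat.div e mdc) (fun d =>
    Nat.rec (motive := fun _ => Bool) (isRoot i)
      (fun _ _ => force (Nat.mod e md) (fun p => force (Nat.mod (Nat.div e md) mc) (fun l =>
        bIf (isH l) (bIf (Nat.beq (Nat.mod (ent p l) md) i)
          (bIf (Nat.blt p N) (Nat.blt (Nat.div (orb p) mdc) d) false) false) false))) d))

/-- points `lo, …, lo + n - 1` (points `≥ N` are skipped). -/
noncomputable def okPts (lo n : Nat) : Bool :=
  Nat.rec (motive := fun _ => Bool) true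
    (fun k ih => force (Nat.add lo k) (fun i =>
      bIf (bIf (Nat.blt i N) (okPt N md mc mdc ent orb isH isRoot i) true) ih false)) n

end comp

end Cfsg.Agent.Helper17.OrbCert
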