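import Mathlib
import Cfsg.Agent.Helper19.TCR.Static
import Cfsg.Agent.Helper17.OrbCert.Defs

/-! Soundness of the orbit certificates of `OrbCert.Defs`. -/

set_option autoImplicit false
set_option linter.all false

namespace Cfsg.Agent.Helper17.OrbCert

open Cfsg.Agent.Helper19.TCS

section spec

variable {N md mc mdc : ℕ} {ent : ℕ → ℕ → ℕ} {orb : ℕ → ℕ} {isH : ℕ → Bool} {isRoot : ℕ → Bool}

theorem okPt_spec {i : ℕ} (h : okPt N md mc mdc ent orb isH isRoot i = true) :
    (isRoot i = true) ∨
      (isH (Nat.mod (Nat.div (orb i) md) mc) = true ∧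
        Nat.mod (ent (Nat.mod (orb i) md) (Nat.mod (Nat.div (orb i) md) mc)) md = i ∧
        Nat.mod (orb i) md < N ∧
        Nat.div (orb (Nat.mod (orb i) md)) mdc < Nat.div (orb i) mdc) := by
  unfold okPt at h
  rw [force_eq, force_eq] at h
  cases hd : Nat.div (orb i) mdc with
  | zero =>
    rw [hd] at h
    exact Or.inl h
  | succ d =>
    rw [hd] at h
    simp only [force_eq] at h
    rw [bIf_eq_true, bIf_eq_true, bIf_eq_true] at h
    obtain ⟨h1, h2, h3, h4⟩ := h
    refine Or.inr ⟨h1, ?_, ?_, ?_⟩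
    · simpa using h2
    · simpa using h3
    · simpa using h4

theorem okPts_succ (lo n : ℕ) : okPts N md mc mdc ent orb isH isRoot lo (n + 1) =
    bIf (bIf (Nat.blt (Nat.add lo n) N) (okPt N md mc mdc ent orb isH isRoot (Nat.add lo n)) true)
      (okPts N md mc mdc ent orb isH isRoot lo n) false :=
  force_eq (Nat.add lo n) (fun i =>
    bIf (bIf (Nat.blt i N) (okPt N md mc mdc ent orb isH isRoot i) true)
      (okPts N md mc mdc ent orb isH isRoot lo n) false)

theorem okPts_spec (lo : ℕ) : ∀ n, okPts N md mc mdc ent orb isH isRoot lo n = true →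
    ∀ i, lo ≤ i → i < lo + n → i < N → okPt N md mc mdc ent orb isH isRoot i = true := by
  intro n
  induction n with
  | zero => intro _ i h1 h2; omega
  | succ n ih =>
    intro h i h1 h2 hi
    rw [okPts_succ, bIf_eq_true] at h
    obtain ⟨ha, hb⟩ := h
    by_cases hin : i = lo + n
    · subst hin
      have hlt : Nat.blt (Nat.add lo n) N = true := by simpa using hi
      rw [hlt, bIf_true] at ha
      exact ha
    · exact ih hb i h1 (by omega) hi

theorem evalw_append (u v : List ℕ) (i : ℕ) :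
    evalw md ent (u ++ v) i = evalw md ent v (evalw md ent u i) := by
  induction u generalizing i with
  | nil => rfl
  | cons l u ih => simp [evalw, ih]

/-- every point is reached from a root by a word in the allowed letters. -/
theorem reach (hall : ∀ i, i < N → okPt N md mc mdc ent orb isH isRoot i = true) :
    ∀ d i, Nat.div (orb i) mdc = d → i < N →
      ∃ r w, r < N ∧ isRoot r = true ∧ (∀ l ∈ w, isH l = true) ∧ evalw md ent w r = i := by
  intro d
  induction d using Nat.strong_induction_on with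
  | _ d ih =>
    intro i hd hi
    rcases okPt_spec (hall i hi) with h | ⟨h1, h2, h3, h4⟩
    · exact ⟨i, [], hi, h, by simp, rfl⟩
    · rw [hd] at h4
      obtain ⟨r, w, hr, hroot, hw, he⟩ := ih _ h4 _ rfl h3
      refine ⟨r, w ++ [Nat.mod (Nat.div (orb i) md) mc], hr, hroot, ?_, ?_⟩
      · intro l hl
        rcases List.mem_append.mp hl with hl | hl
        · exact hw l hl
        · rw [List.mem_singleton] at hl; subst hl; exact h1
      · rw [evalw_append, he]
        simp only [evalw]
        exact h2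

end spec

section group

variable {N nc md mc mdc : ℕ} {inv : ℕ → ℕ} {ent : ℕ → ℕ → ℕ} {par plet : ℕ → ℕ}
  {nrots : ℕ} {rots : ℕ → List ℕ × ℕ} {subsC : ℕ → List ℕ × ℕ × List ℕ}
  {orb : ℕ → ℕ} {isH : ℕ → Bool} {isRoot : ℕ → Bool}
  {G : Type*} [Group G] {H : Subgroup G} {gc : ℕ → G}

theorem prodw_mem {w : List ℕ} (hH : ∀ l, isH l = true → gc l ∈ H) (hw : ∀ l ∈ w, isH l = true) :
    prodw gc w ∈ H := by
  induction w with
  | nil => exact H.one_mem
  | cons l w ih =>
    rw [prodw]
    exact H.mul_mem (ih (fun x hx => hw x (List.mem_cons_of_mem _ hx)))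
      (hH l (hw l (List.mem_cons_self ..)))

/-- `nd` of the end point of a word starting at `0`. -/
theorem nd_evalw_zero (S : Sem N nc inv nrots rots subsC H gc)
    (hcl : Closed N nc md ent par plet H gc) {w : List ℕ} (hw : ∀ l ∈ w, l < nc) :
    nd H gc par plet (evalw md ent w 0) = ((prodw gc w : G) : G ⧸ H) := by
  obtain ⟨-, h⟩ := smul_nd_evalw hcl w 0 S.N_pos hw
  rw [← h, nd_zero, MulAction.Quotient.smul_mk, smul_eq_mul, mul_one]

/-- every coset is in the `H`-orbit of a root. -/
theorem orbit_cover (S : Sem N nc inv nrots rots subsC H gc)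
    (hgen : Subgroup.closure {g : G | ∃ l, l < nc ∧ g = gc l} = ⊤)
    (hcl : Closed N nc md ent par plet H gc)
    (hH : ∀ l, isH l = true → l < nc ∧ gc l ∈ H)
    (hall : ∀ i, i < N → okPt N md mc mdc ent orb isH isRoot i = true) (q : G ⧸ H) :
    ∃ r h, r < N ∧ isRoot r = true ∧ h ∈ H ∧ q = h • nd H gc par plet r := by
  obtain ⟨i, hi, rfl⟩ := exists_nd S hgen hcl q
  obtain ⟨r, w, hr, hroot, hw, he⟩ := reach hall _ i rfl hi
  refine ⟨r, prodw gc w, hr, hroot, prodw_mem (fun l hl => (hH l hl).2) hw, ?_⟩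
  obtain ⟨-, h⟩ := smul_nd_evalw hcl w r hr (fun l hl => (hH l (hw l hl)).1)
  rw [h, he]

/-- double coset decomposition from an orbit certificate with roots `0` and the end points of
the words in `ws`. -/
theorem double_coset_cover (S : Sem N nc inv nrots rots subsC H gc)
    (hgen : Subgroup.closure {g : G | ∃ l, l < nc ∧ g = gc l} = ⊤)
    (hcl : Closed N nc md ent par plet H gc)
    (hH : ∀ l, isH l = true → l < nc ∧ gc l ∈ H)
    (hall : ∀ i, i < N → okPt N md mc mdc ent orb isH isRoot i = true)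
    (ws : List (List ℕ)) (hws : ∀ w ∈ ws, ∀ l ∈ w, l < nc)
    (hroots : ∀ r, r < N → isRoot r = true → ∃ w ∈ ws, evalw md ent w 0 = r) (g : G) :
    ∃ w ∈ ws, ∃ h ∈ H, ∃ h' ∈ H, g = h * prodw gc w * h' := by
  obtain ⟨r, h, hr, hroot, hh, hq⟩ := orbit_cover S hgen hcl hH hall (g : G ⧸ H)
  obtain ⟨w, hw, he⟩ := hroots r hr hroot
  refine ⟨w, hw, h, hh, (h * prodw gc w)⁻¹ * g, ?_, by group⟩
  rw [← he, nd_evalw_zero S hcl (hws w hw), MulAction.Quotient.smul_mk, smul_eq_mul] at hq
  exact QuotientGroup.eq.mp hq.symm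

end group

end Cfsg.Agent.Helper17.OrbCert
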